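import Cfsg.Agent.FewCl.Facts
import Cfsg.Agent.S2480
import Cfsg.Agent.S2386
import Cfsg.Agent.S0333
import Cfsg.Agent.S0254
import Cfsg.Agent.Known.SL2Classes
import Cfsg.Agent.Class.PGL2Sub
import Cfsg.Agent.Class.SL2Dickson
import Cfsg.Agent.Class.HermSimple
import Cfsg.Agent.Spor.M21Classes
import Cfsg.Agent.Spor.M11Classes
import Cfsg.Agent.Spor.M24Iso

/-! Class numbers of some known simple groups. -/

namespace Cfsg.Lib.FewCl

open Subgroup Matrix Cfsg.Agent
open scoped Classical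

theorem k_congr {G H : Type*} [Group G] [Group H] (e : G ≃* H) :
    Nat.card (ConjClasses G) = Nat.card (ConjClasses H) :=
  Nat.card_congr ⟨ConjClasses.map e, ConjClasses.map e.symm, fun C => by
    obtain ⟨g, rfl⟩ := ConjClasses.mk_surjective C
    exact congrArg ConjClasses.mk (e.symm_apply_apply g), fun C => by
    obtain ⟨g, rfl⟩ := ConjClasses.mk_surjective C
    exact congrArg ConjClasses.mk (e.apply_symm_apply g)⟩

theorem cc_equiv {G H : Type*} [Group G] [Group H] (e : G ≃* H) (g : G) : cc (e g) = cc g :=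
  (Nat.card_congr (e.toEquiv.subtypeEquiv fun x => by
    simp only [mem_centralizer_singleton_iff, MulEquiv.toEquiv_eq_coe, EquivLike.coe_coe, ← map_mul,
      e.apply_eq_iff_eq])).symm

variable {F : Type*} [Field F] [Fintype F]

theorem k_psl2 : ((2 : F) = 0 ∧ Nat.card (ConjClasses (ProjectiveSpecialLinearGroup (Fin 2) F)) =
    Fintype.card F + 1) ∨ ((2 : F) ≠ 0 ∧
      2 * Nat.card (ConjClasses (ProjectiveSpecialLinearGroup (Fin 2) F)) = Fintype.card F + 5) := by
  have h1 := S2480.card_le_center_mul (G := SpecialLinearGroup (Fin 2) F)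
  have h2 := S2480.center_mul_le_sum (G := SpecialLinearGroup (Fin 2) F)
  have h3 := Class.card_center_SL2 (F := F)
  have hq : 1 < Fintype.card F := Fintype.one_lt_card
  rw [Nat.card_eq_fintype_card (α := F)] at h3
  have hfin : Finite (ConjClasses (SpecialLinearGroup (Fin 2) F)) :=
    Finite.of_surjective _ ConjClasses.mk_surjective
  by_cases h : (2 : F) = 0
  · have h4 : Fintype.card F % 2 = 0 := FiniteField.even_card_of_char_two
      (@ringChar.eq F _ 2 (CharTwo.of_one_ne_zero_of_two_eq_zero one_ne_zero h))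
    have h5 : Nat.gcd 2 (Fintype.card F - 1) = 1 := (Nat.coprime_two_left.2 (Nat.odd_iff.2 (by omega)))
    have h6 := Known.GL2.card_conjClasses_SL2_char_two h
    have h7 := Nat.card_le_card_of_surjective _ (ConjClasses.map_surjective
      (QuotientGroup.mk'_surjective (center (SpecialLinearGroup (Fin 2) F))))
    rw [h3, h5, one_mul] at h1
    exact Or.inl ⟨h, le_antisymm (h6 ▸ h7) (h6 ▸ h1)⟩
  · have h4 : Fintype.card F % 2 = 1 := FiniteField.odd_card_of_char_ne_two fun h4 => h (by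
      have := CharP.cast_eq_zero F (ringChar F)
      rwa [h4] at this)
    have h5 : Nat.gcd 2 (Fintype.card F - 1) = 2 := Nat.gcd_eq_left (by omega)
    have h6 := Known.GL2.card_conjClasses_SL2_odd h
    rw [h5] at h3
    rw [← Finset.add_sum_erase _ _ (Finset.mem_univ 1)] at h2
    have h7 : ∑ z ∈ Finset.univ.erase (1 : center (SpecialLinearGroup (Fin 2) F)),
        Nat.card {C : ConjClasses (SpecialLinearGroup (Fin 2) F) //
          ∃ g, ConjClasses.mk g = C ∧ IsConj (z * g) g} ≤ 1 := by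
      refine le_trans (Finset.sum_le_card_nsmul _ _ 1 fun z hz => ?_) (by
        rw [Finset.card_erase_of_mem (Finset.mem_univ _), Finset.card_univ, ← Nat.card_eq_fintype_card, h3]
        rfl)
      have hz1 : ((z : SpecialLinearGroup (Fin 2) F) : Matrix (Fin 2) (Fin 2) F) = -1 :=
        (Class.sl2_center_cases z.2).resolve_left fun e =>
          (Finset.mem_erase.1 hz).1 (Subtype.ext (Subtype.ext e))
      have ht : ∀ g : SpecialLinearGroup (Fin 2) F, IsConj (z * g) g →
          (g : Matrix (Fin 2) (Fin 2) F).trace = 0 := fun g hg => by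
        have := (Known.GL2.slLin F).trace_eq_of_isConj hg
        simp only [Known.GL2.slLin_ρ, Matrix.SpecialLinearGroup.coe_mul, hz1, neg_mul, one_mul, trace_neg] at this
        exact (mul_eq_zero.1 (by linear_combination -this)).resolve_left h
      refine Finite.card_le_one_iff_subsingleton.2 ⟨?_⟩
      rintro ⟨_, g, rfl, hg⟩ ⟨_, g', rfl, hg'⟩
      refine Subtype.ext (ConjClasses.mk_eq_mk_iff_isConj.2 ((Known.GL2.slLin F).isConj_of_trace_det ?_
        ((ht g hg).trans (ht g' hg').symm) (g.2.trans g'.2.symm)))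
      rw [Known.GL2.slLin_ρ, Known.GL2.disc, ht g hg, g.2]
      intro e
      exact h (mul_self_eq_zero.1 (by linear_combination -e))
    have h8 := Finite.card_subtype_le fun C : ConjClasses (SpecialLinearGroup (Fin 2) F) =>
      ∃ g, ConjClasses.mk g = C ∧ IsConj ((1 : center (SpecialLinearGroup (Fin 2) F)) * g) g
    rw [h3] at h1 h2
    refine Or.inr ⟨h, ?_⟩
    change Nat.card (ConjClasses (SpecialLinearGroup (Fin 2) F)) = _ at h6
    change 2 * Nat.card (ConjClasses (SpecialLinearGroup (Fin 2) F ⧸ center _)) = _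
    omega

theorem k_psl2_cases (h1 : 9 ≤ Nat.card (ConjClasses (ProjectiveSpecialLinearGroup (Fin 2) F)))
    (h2 : Nat.card (ConjClasses (ProjectiveSpecialLinearGroup (Fin 2) F)) ≤ 11) :
    (Nat.card (ConjClasses (ProjectiveSpecialLinearGroup (Fin 2) F)) = 9 ∧
      (Fintype.card F = 8 ∨ Fintype.card F = 13)) ∨
    (Nat.card (ConjClasses (ProjectiveSpecialLinearGroup (Fin 2) F)) = 11 ∧ Fintype.card F = 17) := by
  have h3 : IsPrimePow (Fintype.card F) := FiniteField.isPrimePow_card F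
  rcases k_psl2 (F := F) with ⟨h, h4⟩ | ⟨h, h4⟩
  · have h5 : Fintype.card F % 2 = 0 := FiniteField.even_card_of_char_two
      (@ringChar.eq F _ 2 (CharTwo.of_one_ne_zero_of_two_eq_zero one_ne_zero h))
    have h6 : Fintype.card F ≠ 10 := fun e => by rw [e] at h3; revert h3; decide +kernel
    omega
  · have h6 : Fintype.card F ≠ 15 := fun e => by rw [e] at h3; revert h3; decide +kernel
    omega

theorem k_A6 : Nat.card (ConjClasses (alternatingGroup (Fin 6))) = 7 := by
  have : Fact (Nat.Prime 3) := ⟨Nat.prime_three⟩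
  let _ := Fintype.ofFinite (GaloisField 3 2)
  have h : Fintype.card (GaloisField 3 2) = 9 := by
    rw [← Nat.card_eq_fintype_card, GaloisField.card 3 2 two_ne_zero]; rfl
  obtain ⟨e⟩ := S0254.result h
  rw [← k_congr e]
  rcases k_psl2 (F := GaloisField 3 2) with ⟨h1, -⟩ | ⟨-, h1⟩
  · have h2 : ((3 : ℕ) : GaloisField 3 2) = 0 := CharP.cast_eq_zero _ 3
    exact absurd (by push_cast at h2; linear_combination h2 - h1) (one_ne_zero (α := GaloisField 3 2))
  · omega

theorem k_psl3 {n : ℕ} (hn : 2 ≤ n) (hF : Fintype.card F = 2 ^ n) :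
    (Fintype.card F = 4 ∧ Nat.card (ConjClasses (ProjectiveSpecialLinearGroup (Fin 3) F)) = 10) ∨
      12 ≤ Nat.card (ConjClasses (ProjectiveSpecialLinearGroup (Fin 3) F)) := by
  rcases hn.eq_or_lt with rfl | hn
  · obtain ⟨e⟩ := Spor.MP.M21_equiv_PSL F hF
    exact Or.inl ⟨hF, by rw [← k_congr e, Spor.MP.isClassList_M21.card]; rfl⟩
  · have h1 := (S2480.result (F := F) 3 (by norm_num)).1
    have h2 : 2 ^ 3 ≤ Fintype.card F := hF ▸ Nat.pow_le_pow_right two_pos hn
    have h3 := Nat.mul_le_mul_right (Nat.card (ConjClasses (ProjectiveSpecialLinearGroup (Fin 3) F)))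
      (Nat.gcd_le_left (Fintype.card F - 1) three_pos)
    have h4 := Nat.pow_le_pow_left h2 (3 - 1)
    right; omega

theorem k_psu3 {n : ℕ} (hn : 2 ≤ n) (hF : Fintype.card F = (2 ^ n) ^ 2) :
    12 ≤ Nat.card (ConjClasses (PSU 3 F (2 ^ n))) := by
  obtain ⟨p, hp⟩ := CharP.exists F
  have := Fact.mk (CharP.char_is_prime F p)
  have hfin : Finite (ConjClasses (SU 3 F (2 ^ n))) := Finite.of_surjective _ ConjClasses.mk_surjective
  have h1 := S2480.card_le_center_mul (G := SU 3 F (2 ^ n))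
  rw [Class.Form.card_center_SU hF 3 (by norm_num)] at h1
  replace h1 := (S2386.result hF p 3 (by norm_num) ▸ Finite.card_subtype_le _).trans h1
  change _ ≤ _ * Nat.card (ConjClasses (PSU 3 F (2 ^ n))) at h1
  rcases hn.eq_or_lt with rfl | hn
  · norm_num at h1 ⊢; omega
  · have h2 : 2 ^ 3 ≤ 2 ^ n := Nat.pow_le_pow_right two_pos hn
    have h3 := Nat.mul_le_mul_right (Nat.card (ConjClasses (PSU 3 F (2 ^ n))))
      (Nat.gcd_le_left (2 ^ n + 1) three_pos)
    have h4 := Nat.pow_le_pow_left h2 (3 - 1)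
    omega

theorem k_M11 : Nat.card (ConjClasses Cfsg.Spor.M11) = 10 := Spor.MP.isClassList_M11.card

theorem k_ssc {G : Type*} [Group G] [Fintype G] {A : Subgroup G} (h : SCS.SSC A) {e : ℕ}
    (he : Nat.card (normalizer (A : Set G)) = e * Nat.card A) (h2 : 2 ∣ e) :
    Nat.card A + 2 * e ≤ Nat.card (ConjClasses G) * e + 1 := by
  have he' : A.relIndex (normalizer (A : Set G)) = e :=
    Nat.eq_of_mul_eq_mul_right Nat.card_pos ((SCS.SSC.card_normalizer A).symm.trans he)
  have h1 := SCS.Two.card_cl' h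
  have h3 := sum_classes (p := SCS.Cl A) (fun g k e hg => by
    obtain ⟨c, rfl⟩ := isConj_iff.1 e
    exact hg.conj c) Prod.snd
  rw [Finset.sum_congr rfl fun g hg => show (ent g).2 = Nat.card A from
    h.card_centralizer (Finset.mem_filter.1 hg).2] at h3
  simp only [ent, Nat.div_mul_cancel (cc_dvd _), Finset.sum_const, smul_eq_mul] at h3
  have h4 : e * (CS (SCS.Cl A)).card + 1 = Nat.card A := by
    have h5 : (0 : ℤ) < Nat.card G := by exact_mod_cast Nat.card_pos
    zify at h3 ⊢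
    rw [he', mul_assoc, mul_comm (Nat.card A : ℤ), h3] at h1
    exact mul_left_cancel₀ h5.ne' (by linear_combination h1)
  obtain ⟨s, hs⟩ := h.exists_inv (he' ▸ h2)
  have hcl : ∀ g, ¬ SCS.Cl A g → ConjClasses.mk g ∉ CS (SCS.Cl A) := fun g hg hc => hg (by
    obtain ⟨c, e⟩ := isConj_iff.1 (isConj_rp g)
    have := mem_CS.1 hc
    rwa [← e, SCS.cl_conj_iff] at this)
  have h6 : ¬ SCS.Cl A s := fun ⟨_, c, hc⟩ => SCS.conj_ne_one hs.ne_one c
    (SCS.SSC.eq_one_of_sq (h.odd_card (he' ▸ h2)) hc (by rw [conj_mul, hs.sq, mul_one, mul_inv_cancel]))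
  have h7 := Finset.card_le_univ (insert (ConjClasses.mk 1) (insert (ConjClasses.mk s) (CS (SCS.Cl A))))
  rw [Finset.card_insert_of_notMem, Finset.card_insert_of_notMem (hcl s h6),
    ← Nat.card_eq_fintype_card] at h7
  · nlinarith
  · rw [Finset.mem_insert, not_or]
    exact ⟨fun e => hs.ne_one (isConj_one_right.1 (ConjClasses.mk_eq_mk_iff_isConj.1 e)),
      hcl 1 (SCS.not_cl_one A)⟩

theorem k_sz {m : ℕ} (hm : 2 ≤ m) (hF : Fintype.card F = 2 ^ (2 * m + 1)) :
    12 ≤ Nat.card (ConjClasses (Sz F m)) := by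
  obtain ⟨U, -, h1, h2, h3⟩ := S0333.result (by omega) hF _ (Or.inl rfl)
  have h4 := k_ssc (A := U) h2 (h1 ▸ h3) (by norm_num)
  have h5 : 2 ^ 5 ≤ 2 ^ (2 * m + 1) := Nat.pow_le_pow_right two_pos (by omega)
  have h6 : 2 ^ 3 ≤ 2 ^ (m + 1) := Nat.pow_le_pow_right two_pos (by omega)
  omega

theorem sixteen_dvd {G : Type*} [Group G] [Finite G] {g : G} (hg : lb g = 4)
    (h : ∀ P : Sylow 2 G, Nat.card P = 64 ∧ Nat.card (center P) = 8) : 16 ∣ cc g := by
  have h1 := Nat.eq_prime_pow_of_unique_prime_dvd (p := 2) (orderOf_pos g).ne' fun {s} hs hd =>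
    (Nat.prime_dvd_prime_iff_eq hs Nat.prime_two).1 (hs.dvd_of_dvd_pow (n := 2) (by
      have := dvd_lb hs hd; rwa [hg] at this))
  obtain ⟨P, hP⟩ := Known.SC.exists_sylow_mem_of_orderOf h1
  obtain ⟨h2, h3⟩ := h P
  set H := centralizer ({(⟨g, hP⟩ : P)} : Set P) with hH
  have h4 : center P ≤ H := center_le_centralizer _
  have h5 : Nat.card H ∣ cc g := by
    rw [← card_map_of_injective (K := H) (P : Subgroup G).subtype_injective]
    refine card_dvd_of_le ?_
    rintro _ ⟨x, hx, rfl⟩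
    exact mem_centralizer_singleton_iff.2 (congrArg Subtype.val (mem_centralizer_singleton_iff.1 hx))
  have h6 : 8 ∣ Nat.card H := h3 ▸ card_dvd_of_le h4
  have h7 : Nat.card H ∣ 64 := h2 ▸ card_subgroup_dvd_card H
  have h8 : Nat.card H ≠ 8 := fun e => by
    have h9 : (⟨g, hP⟩ : P) ∈ center P := by
      rw [eq_of_le_of_card_ge h4 (by omega)]; exact mem_centralizer_singleton_iff.2 rfl
    have : H = ⊤ := eq_top_iff.2 fun x _ => mem_centralizer_singleton_iff.2 (mem_center_iff.1 h9 x)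
    rw [this, card_top, h2] at e
    omega
  refine dvd_trans ?_ h5
  have := Nat.le_of_dvd (by norm_num) h7
  generalize Nat.card H = c at *
  obtain ⟨u, rfl⟩ := h6
  have : u ≤ 8 := by omega
  interval_cases u <;> simp_all

theorem dvd_cc_of_no_four {G : Type*} [Group G] [Finite G] (h : ∀ g : G, g ≠ 1 → lb g ≠ 4) {t : G}
    (ht : lb t = 2) {k : ℕ} (hk : 2 ^ k ∣ Nat.card G) : 2 ^ k ∣ cc t := by
  obtain ⟨P, hP⟩ := Known.SC.exists_sylow_mem_of_orderOf (p := 2) (k := 1) (g := t)
    (by rw [ord_two ht]; rfl)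
  have h1 : ∀ x ∈ (P : Subgroup G), x * x = 1 := fun x hx => by
    by_contra h1
    obtain ⟨j, hj⟩ := IsPGroup.iff_orderOf.1 P.isPGroup' ⟨x, hx⟩
    replace hj : orderOf x = 2 ^ j := (Subgroup.orderOf_coe (⟨x, hx⟩ : P)).trans hj
    have h2 : 4 ∣ orderOf x := by
      rcases j with _ | _ | j
      · exact absurd (by rw [orderOf_eq_one_iff.1 hj, mul_one]) h1
      · exact absurd (by rw [← sq]; exact orderOf_dvd_iff_pow_eq_one.1 (hj ▸ dvd_rfl)) h1
      · exact ⟨2 ^ j, hj.trans (by ring)⟩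
    have h3 := orderOf_pow_orderOf_div (orderOf_pos x).ne' h2
    refine h (x ^ (orderOf x / 4)) (fun e => by simp [e] at h3) ?_
    rw [lb, h3]
    exact Nat.gcd_eq_left (Nat.mul_dvd_mul_left 2 ((UniqueFactorizationMonoid.dvd_radical_iff_of_irreducible
      Nat.prime_two Nat.card_pos.ne').2 ((ord_two ht) ▸ orderOf_dvd_natCard t)))
  refine (P.pow_dvd_card_of_pow_dvd_card hk).trans (card_dvd_of_le fun x hx => ?_)
  rw [mem_centralizer_singleton_iff]
  have := h1 _ (mul_mem hx hP)
  rw [← mul_right_inj (x * t), this, mul_assoc, ← mul_assoc t, h1 t hP, one_mul, h1 x hx]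

end Cfsg.Lib.FewCl
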