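import Mathlib.Util.CompileInductive
import Mathlib.Data.Nat.Prime.Basic

/-! A search through the possible class tables (labels of element orders, centraliser orders) of a
group with few conjugacy classes; the definitions are written for evaluation by the kernel. -/

namespace Cfsg.Lib.FewCl

noncomputable section

/-- A table: pairs (label, centraliser order). -/
abbrev Tb := List (ℕ × ℕ)

local notation:10 "IF " c " THEN " a " ELSE " b:10 => @Bool.rec (fun _ => _) b a c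
local infixl:65 " +' " => Nat.add
local infixl:65 " -' " => Nat.sub
local infixl:70 " *' " => Nat.mul
local infixl:70 " /' " => Nat.div
local infix:50 " ≤' " => Nat.ble
local infix:50 " =' " => Nat.beq
local notation:50 a:51 " ∣' " b:51 => Nat.beq (Nat.mod b a) 0

/-- Evaluate `x` first. -/
def force {β : Type} (x : ℕ) (f : ℕ → β) : β := Nat.rec (f 0) (fun n _ => f n) (Nat.succ x)

def allL {α : Type} (l : List α) (f : α → Bool) : Bool :=
  List.rec true (fun a _ ih => IF f a THEN ih ELSE false) l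

def anyL {α : Type} (l : List α) (f : α → Bool) : Bool :=
  List.rec false (fun a _ ih => IF f a THEN true ELSE ih) l

def sumL {α : Type} (l : List α) (p : α → Bool) (f : α → ℕ) : ℕ :=
  List.rec 0 (fun a _ ih => IF p a THEN f a +' ih ELSE ih) l

/-- Filter, in continuation style. -/
def filtK {α : Type} (l : List α) (p : α → Bool) (z : List α) : (List α → Bool) → Bool :=
  List.rec (fun k => k z) (fun a _ ih k => IF p a THEN (ih fun l' => k (a :: l')) ELSE ih k) l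

def mem (a : ℕ) (l : List ℕ) : Bool :=
  List.rec false (fun b _ ih => IF b =' a THEN true ELSE ih) l

def cnt (P : Tb) (d : ℕ) : ℕ := List.rec 0 (fun x _ ih => IF x.1 =' d THEN Nat.succ ih ELSE ih) P

def has (P : Tb) (d : ℕ) : Bool := List.rec false (fun x _ ih => IF x.1 =' d THEN true ELSE ih) P

def len (P : Tb) : ℕ := List.rec 0 (fun _ _ ih => Nat.succ ih) P

def powAll (r hi : ℕ) (f : ℕ → Bool) (n : ℕ) : ℕ → Bool :=
  Nat.rec (fun _ => false)
    (fun _ ih v => IF v ≤' hi THEN (IF f v THEN force (v *' r) ih ELSE false) ELSE true) n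

def smoothAll (pr : List ℕ) (hi : ℕ) (f : ℕ → Bool) : ℕ → Bool :=
  List.rec f (fun r _ ih => powAll r hi ih 64) pr

def pow2 (lo hi : ℕ) (f : ℕ → Bool) (v : ℕ) : Bool :=
  force (Nat.shiftLeft v (Nat.log2 (lo /' v))) (powAll 2 hi f 64)

def divAll (pr : List ℕ) (f : ℕ → Bool) : ℕ → Bool :=
  List.rec (fun v => IF f v THEN (IF force (v *' 2) f THEN force (v *' 4) f ELSE false) ELSE false)
    (fun r _ ih v => IF ih v THEN force (v *' r) ih ELSE false) pr

def rangeAll (lo n : ℕ) (f : ℕ → Bool) : Bool :=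
  Nat.rec true (fun i ih => IF force (lo +' i) f THEN ih ELSE false) n

/-- State of the search. -/
structure St where
  P : Tb
  Pi : List ℕ
  C : Tb
  Ob : Tb
  S : Tb
  e2 : Bool
  s6 : Bool
  A : ℕ
  L : ℕ
  lc : ℕ
  lo : ℕ
  c2 : ℕ
  c3 : ℕ
  I : ℕ
  s3 : ℕ

def pre (K NMIN : ℕ) (Ob : Tb) (e2 s6 : Bool) (L c2 c3 I s3 m : ℕ)
    (body : ℕ → ℕ → ℕ → ℕ → Bool) : Bool :=
  force (IF NMIN ≤' L THEN L ELSE NMIN) fun N0 =>
  IF N0 *' (I *' I) ≤' K *' (L *' L) THEN
    force (IF has Ob 2 THEN 1 ELSE 0) fun h2 =>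
    force (IF s6 THEN 2 -' c2 -' h2 ELSE 0) fun x2 =>
    IF (IF e2 THEN 2 ≤' c2 +' h2 +' x2 ELSE false) THEN true ELSE
    force ((3 *' s3 +' L -' 1) /' L -' c3 -' (IF has Ob 3 THEN 1 ELSE 0)) fun x3 =>
    force (len Ob +' x2 +' x3) fun tot =>
    IF tot ≤' m THEN body x2 x3 tot N0 ELSE true
  ELSE true

def frobOk (P : Tb) (N r : ℕ) : Bool :=
  force (Nat.gcd N (Nat.pow r 64)) fun n => IF Nat.gcd n (N /' n) =' 1 THEN
    (n ∣' 1 +' sumL P (fun x => x.1 ∣' n) fun x => N /' x.2) ELSE true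

def rz (P : Tb) (Pi : List ℕ) : ℕ :=
  sumL P (fun x => IF x.1 =' x.2 THEN (IF mem x.1 Pi THEN 2 ∣' (x.1 -' 1) /' cnt P x.1 ELSE false)
    ELSE false) fun _ => 1

def final (K NMIN : ℕ) (leaf : ℕ → Tb → Bool) (P : Tb) (Pi : List ℕ) (A L I : ℕ) : Bool :=
  IF A =' 1 THEN (IF NMIN ≤' L THEN (IF allL (2 :: Pi) (frobOk P L) THEN
    (IF I *' I +' L ≤' I +' K *' L THEN
      (IF I +' rz P Pi *' L ≤' I *' I THEN leaf L P ELSE true) ELSE true) ELSE true) ELSE true)
  ELSE true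

def subAny (P : Tb) (o c n : ℕ) : ℕ → Bool :=
  List.rec (fun s => IF n ∣' s THEN s *' o ≤' c ELSE false)
    (fun y _ ih s => IF (IF o ∣' y.1 THEN (IF y.1 =' o THEN false ELSE
        IF y.2 ∣' c THEN Nat.gcd (y.1 /' o) o =' 1 ELSE false) ELSE false) THEN
      (IF ih s THEN true ELSE force (s +' c /' y.2) ih) ELSE ih s) P

def sect (C : Tb) (o c : ℕ) : Bool :=
  force (c /' Nat.gcd c (Nat.pow o 64)) fun n =>
    IF n =' 1 THEN true ELSE IF Nat.gcd n o =' 1 THEN subAny C o c n 1 ELSE true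

def sylOk (S : Tb) (o c : ℕ) : Bool :=
  List.rec true (fun y _ ih => IF y.1 *' y.1 ∣' c THEN false ELSE
    IF y.1 ∣' o THEN (IF o =' y.1 THEN (IF c =' y.2 THEN ih ELSE false) ELSE false) ELSE ih) S

def upOk (C : Tb) (o c : ℕ) (U : List ℕ) : Bool :=
  List.rec true (fun _ _ _ => IF (allL U fun r => IF r ∣' c THEN (IF r ∣' o THEN true ELSE
      anyL C fun y => IF y.1 =' r *' o THEN y.2 ∣' c ELSE false) ELSE true)
    THEN sect C o c ELSE false) U

/-- Insert an obligation, replacing the one with the same label. -/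
def ins (d c : ℕ) (Ob : Tb) (k : Tb → Bool) : Bool :=
  filtK Ob (fun y => IF y.1 =' d THEN false ELSE true) [] fun l => k ((d, c) :: l)

/-- The new obligations. -/
def newOb (Pi : List ℕ) (o c : ℕ) : Tb → (Tb → Bool) → Bool :=
  List.rec (fun Ob k => k Ob) (fun r _ ih Ob k => IF (IF o ≤' r THEN false ELSE r ∣' o) THEN
    (force (o /' r) fun d => ins r c Ob fun l => ins d c l fun l' => ih l' k) ELSE ih Ob k) Pi

def fin (k : St → Bool) (P : Tb) (Pi : List ℕ) (A L c2 c3 I s3 o c : ℕ) (C Ob S : Tb)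
    (e2 s6 : Bool) : Bool :=
  force (c /' Nat.gcd L c) fun u => force (L *' u) fun L' => force (L' /' c) fun w =>
  force (A *' u -' w) fun A' =>
  IF 3 ∣' o THEN force (I *' u) fun I' => force (s3 *' u +' w) fun s3' =>
    (IF o =' 3 THEN force (Nat.succ c3) fun c3' =>
      k ⟨(o, c) :: P, Pi, C, Ob, S, e2, s6, A', L', c, o, c2, c3', I', s3'⟩
    ELSE k ⟨(o, c) :: P, Pi, C, Ob, S, e2, s6, A', L', c, o, c2, c3, I', s3'⟩)
  ELSE force (s3 *' u) fun s3' =>
    IF o =' 2 THEN force (I *' u +' w) fun I' => force (Nat.succ c2) fun c2' =>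
      k ⟨(o, c) :: P, Pi, C, Ob, S, e2, s6, A', L', c, o, c2', c3, I', s3'⟩
    ELSE force (I *' u) fun I' =>
      k ⟨(o, c) :: P, Pi, C, Ob, S, e2, s6, A', L', c, o, c2, c3, I', s3'⟩

def step (h6 : Bool) (P : Tb) (Pi : List ℕ) (C Ob S : Tb) (e2 s6 : Bool) (o c : ℕ)
    (f : Tb → Tb → Tb → Bool → Bool → Bool) : Bool :=
  filtK Ob (fun y => IF y.1 =' o THEN (IF y.2 ∣' c THEN false ELSE true) ELSE true) [] fun Ob1 =>
  IF mem o Pi THEN
    (IF o *' o ∣' c THEN f C Ob1 S e2 s6 ELSE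
      force (2 *' Nat.succ (cnt P o)) fun j => IF o ≤' j THEN true ELSE
        IF (IF o =' c THEN (IF 5 ≤' o THEN o ≤' Nat.succ j ELSE false) ELSE false) THEN
          (IF j ≤' 2 THEN f C Ob1 ((o, c) :: S) true s6 ELSE f C Ob1 S true s6)
        ELSE IF j ≤' 2 THEN f C Ob1 ((o, c) :: S) e2 s6 ELSE f C Ob1 S e2 s6)
  ELSE IF o ≤' 2 THEN f C Ob1 S e2 s6
  ELSE IF o =' 4 THEN ins 2 c Ob1 fun Ob2 => f C Ob2 S e2 s6
  ELSE newOb (2 :: Pi) o c Ob1 fun Ob2 =>
    IF (IF c =' 6 THEN (IF o =' 6 THEN h6 ELSE false) ELSE false) THEN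
      f ((o, c) :: C) Ob2 S e2 true ELSE f ((o, c) :: C) Ob2 S e2 s6

def tr (F : ℕ) (h6 : Bool) (k : St → Bool) (P C Ob S : Tb) (e2 s6 : Bool)
    (A L lc lo c2 c3 I s3 lo' : ℕ) (Pi : List ℕ) (o : ℕ) (U : List ℕ) (c : ℕ) : Bool :=
  IF lo' ≤' c THEN
    (IF (IF c ≤' lc THEN o ≤' lo ELSE true) THEN
      (IF (IF o =' 2 THEN 4 ∣' c ELSE true) THEN
        (IF c ∣' F THEN (IF sylOk S o c THEN (IF upOk C o c U THEN
          step h6 P Pi C Ob S e2 s6 o c (fin k P Pi A L c2 c3 I s3 o c)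
        ELSE true) ELSE true) ELSE true) ELSE true) ELSE true)
  ELSE true

def prK (Pi : List ℕ) (C : Tb) (o : ℕ) : (List ℕ → List ℕ → Bool) → Bool :=
  List.rec (fun k => k [] []) (fun r _ ih k =>
    IF r ∣' o THEN (ih fun pr U => k (r :: pr) U) ELSE
      IF has C (r *' o) THEN (ih fun pr U => k (r :: pr) (r :: U)) ELSE ih k) Pi

def lab1 (Pi : List ℕ) (C : Tb) (lo hi : ℕ) (t : ℕ → List ℕ → ℕ → Bool) (o : ℕ) : Bool :=
  IF o ≤' 1 THEN true ELSE IF o ≤' hi THEN
    (prK Pi C o fun pr U =>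
      IF 2 ∣' o THEN smoothAll pr hi (pow2 lo hi (t o U)) o
      ELSE IF has C (2 *' o) THEN smoothAll pr hi (pow2 lo hi (t o (2 :: U))) o
      ELSE smoothAll pr hi (t o U) o)
  ELSE true

def PL : List ℕ := [3, 5, 7, 11, 13, 17, 19, 23, 29, 31, 37, 41, 43, 47, 53, 59, 61, 67, 71, 73,
  79, 83, 89, 97, 101, 103, 107, 109, 113, 127, 131, 137, 139, 149]

/-- The product of the members of `PL`. -/
def PP : ℕ := 746091175469639660029437868307920534273791931663432265205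

def new1 (Pi : List ℕ) (lo hi : ℕ) (t : List ℕ → ℕ → List ℕ → ℕ → Bool) : Bool :=
  smoothAll Pi hi (powAll 2 hi (fun v => force (Nat.succ v) fun q =>
    IF (IF lo ≤' q THEN true ELSE q *' q ≤' hi) THEN
      (force (Nat.gcd q PP) fun g => IF (IF g =' 1 THEN true ELSE g =' q) THEN
        (IF mem q Pi THEN true ELSE powAll q hi (t (q :: Pi) q []) 64 q) ELSE true)
    ELSE true) 64) 2

def new2 (Pi : List ℕ) (lo hi : ℕ) (t : List ℕ → ℕ → List ℕ → ℕ → Bool) : Bool :=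
  IF hi ≤' 150 THEN rangeAll lo (Nat.succ hi -' lo) fun c =>
    filtK PL (fun r => IF r ∣' c THEN (IF mem r Pi THEN false ELSE true) ELSE false) [] fun np =>
      List.rec true (fun _ _ _ => filtK np (fun _ => true) Pi fun Pi' =>
        filtK Pi' (fun r => r ∣' c) [] fun pr =>
          divAll pr (fun o => IF o ≤' 1 THEN true ELSE
            IF o ∣' c THEN t Pi' o (2 :: pr) c ELSE true) 1) np
  ELSE false

def hiB (A L m N0 : ℕ) : ℕ :=
  force (Nat.succ m *' L /' A) fun h1 => force (A *' N0) fun w =>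
    IF w ≤' L THEN h1 ELSE force (m *' (L *' N0) /' (w -' L)) fun h2 => IF h1 ≤' h2 THEN h1 ELSE h2

def node (K F NMIN : ℕ) (h6 allp : Bool) (m : ℕ) (k : St → Bool) (s : St) : Bool :=
  St.rec (fun P Pi C Ob S e2 s6 A L lc lo c2 c3 I s3 =>
    pre K NMIN Ob e2 s6 L c2 c3 I s3 m fun x2 x3 tot N0 =>
    force (Nat.succ (L /' A)) fun l1 => force (IF lc ≤' l1 THEN l1 ELSE lc) fun lo' =>
    force (hiB A L m N0) fun hi =>
    IF lo' ≤' hi THEN
      (IF m ≤' tot THEN
        (IF allL Ob (fun y => lab1 Pi C lo' hi (tr F h6 k P C Ob S e2 s6 A L lc lo c2 c3 I s3 lo' Pi) y.1)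
          THEN (IF (IF x2 ≤' 0 THEN true ELSE IF has Ob 2 THEN true ELSE
              lab1 Pi C lo' hi (tr F h6 k P C Ob S e2 s6 A L lc lo c2 c3 I s3 lo' Pi) 2) THEN
            (IF x3 ≤' 0 THEN true ELSE IF has Ob 3 THEN true ELSE
              lab1 Pi C lo' hi (tr F h6 k P C Ob S e2 s6 A L lc lo c2 c3 I s3 lo' Pi) 3) ELSE false)
          ELSE false)
      ELSE IF divAll Pi (lab1 Pi C lo' hi (tr F h6 k P C Ob S e2 s6 A L lc lo c2 c3 I s3 lo' Pi)) 1 THEN
        (IF allp THEN true ELSE IF m ≤' Nat.succ tot THEN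
          new1 Pi lo' hi (tr F h6 k P C Ob S e2 s6 A L lc lo c2 c3 I s3 lo')
        ELSE new2 Pi lo' hi (tr F h6 k P C Ob S e2 s6 A L lc lo c2 c3 I s3 lo'))
      ELSE false)
    ELSE true) s

def last (K NMIN : ℕ) (leaf : ℕ → Tb → Bool) (s : St) : Bool :=
  St.rec (fun P Pi _ Ob _ e2 s6 A L _ _ c2 c3 I s3 =>
    pre K NMIN Ob e2 s6 L c2 c3 I s3 0 fun _ _ _ _ => final K NMIN leaf P Pi A L I) s

/-- `d` levels of the search, with `b` classes left afterwards. -/
def lev (K F NMIN : ℕ) (h6 allp : Bool) (b : ℕ) (k : St → Bool) (d : ℕ) : St → Bool :=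
  Nat.rec k (fun n ih => force (Nat.succ (b +' n)) fun m => node K F NMIN h6 allp m ih) d

/-- The initial state. -/
def st0 (Pi B : List ℕ) (L c : ℕ) : St :=
  ⟨[], Pi, [], B.map fun d => (d, 1), [], false, false, L, L, c, c, 0, 0, 0, 0⟩

/-- One part of the search: `d` levels, then the states with the residue `i` modulo `n`. -/
def part (K F NMIN : ℕ) (h6 allp : Bool) (leaf : ℕ → Tb → Bool) (b d n i : ℕ) : St → Bool :=
  lev K F NMIN h6 allp b (fun s => IF Nat.mod (s.A +' s.L +' s.lc) n =' i THEN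
    lev K F NMIN h6 allp 0 (last K NMIN leaf) b s ELSE true) d

end

end Cfsg.Lib.FewCl
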